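import Cfsg.Agent.Lib.Helper81.CS3.NGDefs

/-!
# CS3 (S4284), part NG, package [I]: `m` prime, all non-central `m`-elements of type (i): impossible.
-/

set_option autoImplicit false

namespace Cfsg.Agent.Lib.Helper50.CS3

open Cfsg.Agent.Lib.Helper81.CS3

universe u

theorem memC {G : Type u} [Group G] {g x : G} :
    g ∈ Subgroup.centralizer ({x} : Set G) ↔ Commute g x := by
  rw [Subgroup.mem_centralizer_iff]
  constructor
  · intro h
    exact (h x rfl).symm
  · intro h y hy
    rw [Set.mem_singleton_iff] at hy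
    subst hy
    exact h.symm

theorem idx_eq_one_iff {G : Type u} [Group G] (x : G) : idx x = 1 ↔ x ∈ Subgroup.center G := by
  show (Subgroup.centralizer ({x} : Set G)).index = 1 ↔ _
  rw [Subgroup.index_eq_one]
  constructor
  · intro h
    rw [Subgroup.mem_center_iff]
    intro g
    have hg : g ∈ Subgroup.centralizer ({x} : Set G) := by rw [h]; exact Subgroup.mem_top g
    exact memC.mp hg
  · intro h
    rw [eq_top_iff]
    intro g _
    exact memC.mpr (Subgroup.mem_center_iff.mp h g)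

theorem eq_of_le_of_index_eq {G : Type u} [Group G] [Finite G] {H K : Subgroup G} (h : H ≤ K)
    (hi : H.index = K.index) : H = K := by
  have h1 := Subgroup.relIndex_mul_index h
  have hK : K.index ≠ 0 := Subgroup.index_ne_zero_of_finite
  have h2 : H.relIndex K = 1 := by
    have h3 : H.relIndex K * K.index = 1 * K.index := by rw [h1, hi, one_mul]
    exact Nat.eq_of_mul_eq_mul_right (Nat.pos_of_ne_zero hK) h3
  exact le_antisymm h (Subgroup.relIndex_eq_one.mp h2)

theorem cent_eq {G : Type u} [Group G] [Finite G] {b v : G} (hab : AbC b) (hvb : Commute v b)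
    (hi : idx v = idx b) :
    Subgroup.centralizer ({v} : Set G) = Subgroup.centralizer ({b} : Set G) := by
  have hle : Subgroup.centralizer ({b} : Set G) ≤ Subgroup.centralizer ({v} : Set G) := by
    intro y hy
    exact memC.mpr (hab y v (memC.mp hy) hvb)
  exact (eq_of_le_of_index_eq hle hi.symm).symm

theorem commute_conj {G : Type u} [Group G] {y b : G} (h : Commute y b) (v : G) :
    Commute (v * y * v⁻¹) (v * b * v⁻¹) := by
  show v * y * v⁻¹ * (v * b * v⁻¹) = v * b * v⁻¹ * (v * y * v⁻¹)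
  have h' : y * b = b * y := h
  calc v * y * v⁻¹ * (v * b * v⁻¹) = v * (y * b) * v⁻¹ := by group
    _ = v * (b * y) * v⁻¹ := by rw [h']
    _ = v * b * v⁻¹ * (v * y * v⁻¹) := by group

theorem commute_conj' {G : Type u} [Group G] {y b : G} (h : Commute y b) (v : G) :
    Commute (v⁻¹ * y * v) (v⁻¹ * b * v) := by
  have := commute_conj h v⁻¹
  simpa using this

theorem coprime_trick {G : Type u} [Group G] {x σ z : G} (hz : z ∈ Subgroup.center G)
    (h : σ * x * σ⁻¹ = x * z) (hcop : (orderOf x).Coprime (orderOf σ)) : z = 1 := by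
  have hzc : ∀ g : G, g * z = z * g := fun g => Subgroup.mem_center_iff.mp hz g
  have hzk : ∀ (k : ℕ) (g : G), g * z ^ k = z ^ k * g := fun k g =>
    Subgroup.mem_center_iff.mp (Subgroup.pow_mem _ hz k) g
  have h1 : ∀ k : ℕ, σ ^ k * x * (σ ^ k)⁻¹ = x * z ^ k := by
    intro k
    induction k with
    | zero => simp
    | succ k ih =>
      have e1 : σ ^ (k + 1) * x * (σ ^ (k + 1))⁻¹ = σ * (σ ^ k * x * (σ ^ k)⁻¹) * σ⁻¹ := by
        rw [pow_succ']; group
      rw [e1, ih]
      calc σ * (x * z ^ k) * σ⁻¹ = (σ * x * σ⁻¹) * (σ * z ^ k) * σ⁻¹ := by group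
        _ = (x * z) * (z ^ k * σ) * σ⁻¹ := by rw [h, hzk k σ]
        _ = x * z ^ (k + 1) := by rw [pow_succ']; group
  have h2 : z ^ orderOf σ = 1 := by
    have h3 := h1 (orderOf σ)
    rw [pow_orderOf_eq_one] at h3
    simpa using h3.symm
  have h4 : z ^ orderOf x = 1 := by
    have h5 : (σ * x * σ⁻¹) ^ orderOf x = 1 := by
      rw [conj_pow, pow_orderOf_eq_one]; group
    rw [h] at h5
    have hc : Commute x z := hzc x
    rw [hc.mul_pow, pow_orderOf_eq_one, one_mul] at h5
    exact h5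
  have h6 : orderOf z ∣ Nat.gcd (orderOf x) (orderOf σ) :=
    Nat.dvd_gcd (orderOf_dvd_of_pow_eq_one h4) (orderOf_dvd_of_pow_eq_one h2)
  rw [hcop.gcd_eq_one, Nat.dvd_one] at h6
  exact orderOf_eq_one_iff.mp h6

theorem max_sub {G : Type u} [Group G] [Finite G] {m j : ℕ} (hm : m.Prime) {B S X : Subgroup G}
    (hB : Nat.card B = m ^ j) (hS : Nat.card S = m ^ (j + 1)) (hBX : B ≤ X) (hXS : X ≤ S) :
    X = B ∨ X = S := by
  have h1 : Nat.card X ∣ m ^ (j + 1) := hS ▸ Subgroup.card_dvd_of_le hXS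
  obtain ⟨i, hi, hXi⟩ := (Nat.dvd_prime_pow hm).1 h1
  have h2 : m ^ j ∣ m ^ i := by
    rw [← hB, ← hXi]; exact Subgroup.card_dvd_of_le hBX
  have hji : j ≤ i := (Nat.pow_dvd_pow_iff_le_right hm.one_lt).1 h2
  rcases Nat.lt_or_ge i (j + 1) with hlt | hge
  · left
    have hij : i = j := by omega
    exact (Subgroup.eq_of_le_of_card_ge hBX (by rw [hXi, hB, hij])).symm
  · right
    have hij : i = j + 1 := by omega
    exact Subgroup.eq_of_le_of_card_ge hXS (by rw [hS, hXi, hij])

theorem sylow_card {G : Type u} [Group G] [Finite G] {m n j a : ℕ} [hm : Fact m.Prime]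
    (hcopn : m.Coprime n) (hn : 0 < n) (ha : a.Coprime m) (ha0 : 0 < a)
    (hG : m ^ j * a * (m * n) = Nat.card G) (P : Sylow m G) :
    Nat.card P = m ^ (j + 1) := by
  rw [Sylow.card_eq_multiplicity]
  congr 1
  have hG' : Nat.card G = m ^ (j + 1) * (a * n) := by rw [← hG]; ring
  have hnd : ¬ m ∣ a * n := by
    intro h
    have hc : Nat.Coprime m (a * n) := Nat.Coprime.mul_right ha.symm hcopn
    exact hm.1.one_lt.ne' (Nat.Coprime.eq_one_of_dvd hc h)
  rw [hG', Nat.factorization_mul (pow_ne_zero _ hm.1.ne_zero) (Nat.mul_ne_zero ha0.ne' hn.ne'),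
    Nat.Prime.factorization_pow hm.1]
  simp [Nat.factorization_eq_zero_of_not_dvd hnd]

theorem card_mul_relIndex' {G : Type u} [Group G] [Finite G] {H K : Subgroup G} (h : H ≤ K) :
    Nat.card H * H.relIndex K = Nat.card K := by
  have h1 := Subgroup.relIndex_mul_index h
  have h2 := H.card_mul_index
  have h3 := K.card_mul_index
  have hK : K.index ≠ 0 := Subgroup.index_ne_zero_of_finite
  apply Nat.eq_of_mul_eq_mul_right (Nat.pos_of_ne_zero hK)
  rw [mul_assoc, h1, h2, h3]

/-- a normal `r`-subgroup centralizes every element whose class size is a prime `s ≠ r`. -/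
theorem nc_le {G : Type u} [Group G] [Finite G] {X C : Subgroup G} [X.Normal] {r e s : ℕ}
    (hr : r.Prime) (hs : s.Prime) (hrs : r ≠ s) (hX : Nat.card X = r ^ e) (hC : C.index = s) :
    X ≤ C := by
  have h1 : C.relIndex (X ⊔ C) * (X ⊔ C).index = C.index :=
    Subgroup.relIndex_mul_index le_sup_right
  have hd1 : C.relIndex (X ⊔ C) ∣ s := hC ▸ Dvd.intro _ h1
  have hd2 : C.relIndex (X ⊔ C) ∣ Nat.card X := by
    have e1 : Nat.card X * X.relIndex (X ⊔ C) = Nat.card (X ⊔ C : Subgroup G) :=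
      card_mul_relIndex' le_sup_left
    rw [Subgroup.relIndex_sup_left] at e1
    have e2 : Nat.card C * C.relIndex (X ⊔ C) = Nat.card (X ⊔ C : Subgroup G) :=
      card_mul_relIndex' le_sup_right
    have e3 : Nat.card (X ⊓ C : Subgroup G) * X.relIndex C = Nat.card C := by
      have := card_mul_relIndex' (inf_le_right : X ⊓ C ≤ C)
      rwa [Subgroup.inf_relIndex_right] at this
    have hρ : X.relIndex C ≠ 0 := by
      intro h0
      rw [h0, mul_zero] at e3
      exact (Nat.card_pos (α := C)).ne' e3.symm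
    refine ⟨Nat.card (X ⊓ C : Subgroup G), ?_⟩
    apply Nat.eq_of_mul_eq_mul_right (Nat.pos_of_ne_zero hρ)
    rw [e1, ← e2, ← e3]; ring
  have h2 : C.relIndex (X ⊔ C) = 1 := by
    rw [hX] at hd2
    have hcop : Nat.Coprime s (r ^ e) :=
      Nat.Coprime.pow_right _ ((Nat.coprime_primes hs hr).2 (Ne.symm hrs))
    have := Nat.dvd_gcd hd1 hd2
    rw [hcop.gcd_eq_one] at this
    exact Nat.dvd_one.mp this
  exact le_sup_left.trans (Subgroup.relIndex_eq_one.mp h2)

theorem conj_lemma (hStr : PkgStr.{u}) (hAb : PkgAb.{u}) {G : Type u} [Group G] [Finite G]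
    {m n : ℕ} (hyp : Hyp G m n) (hNG : NG G m) (hmp : m.Prime)
    (hall : ∀ b : G, PM m m b → ¬ TypeII m n m b)
    {b bs x : G} (hb : PM m m b) (hbs : PM m m bs) (hix : idx x = m) (hxbs : Commute x bs)
    (hconj : ∀ t : G, Commute (t * x * t⁻¹) b) :
    ∃ v : G, ∀ y : G, Commute y bs ↔ Commute (v⁻¹ * y * v) b := by
  have : Fact m.Prime := ⟨hmp⟩
  have hn1 := hyp.2.2.1
  have hcopmn := hyp.2.2.2.1
  obtain ⟨hib, Sb, Ab, hSb, hAbm, hAbc, hcard, ⟨j, hj⟩, hcop⟩ := hStr m n hyp hNG m b hb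
  have habb : AbC b := hAb m n hyp hNG m b hb (hall b hb)
  obtain ⟨S, hSbS⟩ := (IsPGroup.of_card hj).exists_le_sylow
  have hScard : Nat.card S = m ^ (j + 1) :=
    sylow_card hcopmn (by omega) hcop Nat.card_pos (hj ▸ hcard) S
  obtain ⟨ks, hks⟩ := hbs.2.2.1
  have hbsc := hbs.2.2.2
  have hz : IsPGroup m (Subgroup.zpowers bs) := IsPGroup.of_card (by rw [Nat.card_zpowers, hks])
  obtain ⟨Q, hQ⟩ := hz.exists_le_sylow
  obtain ⟨v, hv⟩ := MulAction.exists_smul_eq G S Q
  have hmemQ : ∀ q : G, q ∈ Q ↔ v⁻¹ * q * v ∈ S := by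
    intro q
    rw [← hv]
    show q ∈ ((v • S : Sylow m G) : Subgroup G) ↔ _
    rw [Sylow.coe_subgroup_smul, Subgroup.mem_pointwise_smul_iff_inv_smul_mem, MulAut.smul_def,
      MulAut.conj_inv_apply]
    rfl
  have hb1S : v⁻¹ * bs * v ∈ S := (hmemQ bs).1 (hQ (Subgroup.mem_zpowers bs))
  have hx1b : Commute (v⁻¹ * x * v) b := by
    have := hconj v⁻¹
    simpa using this
  have hSbX : Sb ≤ Subgroup.centralizer ({v⁻¹ * x * v} : Set G) ⊓ S := fun y hy =>
    ⟨memC.mpr (habb y _ ((hSb y).1 hy).1 hx1b), hSbS hy⟩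
  rcases max_sub hmp hj hScard hSbX inf_le_right with hX | hX
  · have hb1X : v⁻¹ * bs * v ∈ Subgroup.centralizer ({v⁻¹ * x * v} : Set G) ⊓ S :=
      ⟨memC.mpr (commute_conj' hxbs.symm v), hb1S⟩
    rw [hX] at hb1X
    obtain ⟨hb1b, k1, hk1⟩ := (hSb _).1 hb1X
    have hb1c : v⁻¹ * bs * v ∉ Subgroup.center G := by
      intro hc
      apply hbsc
      have h1 := (inferInstance : (Subgroup.center G).Normal).conj_mem _ hc v
      have e : v * (v⁻¹ * bs * v) * v⁻¹ = bs := by group
      rwa [e] at h1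
    have hPM1 : PM m m (v⁻¹ * bs * v) := ⟨hmp, dvd_rfl, ⟨k1, hk1⟩, hb1c⟩
    obtain ⟨hib1, -⟩ := hStr m n hyp hNG m _ hPM1
    have hC := cent_eq habb hb1b (hib1.trans hib.symm)
    refine ⟨v, fun y => ⟨fun hy => ?_, fun hy => ?_⟩⟩
    · have h1 : Commute (v⁻¹ * y * v) (v⁻¹ * bs * v) := commute_conj' hy v
      have h2 := memC.mpr h1
      rw [hC] at h2
      exact memC.mp h2
    · have h2 := memC.mpr hy
      rw [← hC] at h2
      have h3 := commute_conj (memC.mp h2) v
      have e1 : v * (v⁻¹ * y * v) * v⁻¹ = y := by group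
      have e2 : v * (v⁻¹ * bs * v) * v⁻¹ = bs := by group
      rwa [e1, e2] at h3
  · exfalso
    have hQle : (Q : Subgroup G) ≤ Subgroup.centralizer ({x} : Set G) := by
      intro q hq
      have h1 : v⁻¹ * q * v ∈ Subgroup.centralizer ({v⁻¹ * x * v} : Set G) ⊓ S := by
        rw [hX]; exact (hmemQ q).1 hq
      have h3 := commute_conj (memC.mp h1.1) v
      have e1 : v * (v⁻¹ * q * v) * v⁻¹ = q := by group
      have e2 : v * (v⁻¹ * x * v) * v⁻¹ = x := by group
      rw [e1, e2] at h3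
      exact memC.mpr h3
    have hdvd : (Subgroup.centralizer ({x} : Set G)).index ∣ (Q : Subgroup G).index :=
      Subgroup.index_dvd_of_le hQle
    have hix' : (Subgroup.centralizer ({x} : Set G)).index = m := hix
    rw [hix'] at hdvd
    exact Sylow.not_dvd_index Q hdvd

/-- [I] `m` prime, all non-central `m`-elements of type (i): impossible. -/
theorem pkgI (hSyl : PkgSyl.{u}) (hStr : PkgStr.{u}) (hAb : PkgAb.{u}) (hStepA : PkgStepA.{u})
    (hStepB : PkgStepB.{u}) : PkgI.{u} := by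
  intro G _ _ m n hyp hNG hmp hall
  have : Fact m.Prime := ⟨hmp⟩
  have hm1 := hyp.2.1
  have hn1 := hyp.2.2.1
  have hcopmn := hyp.2.2.2.1
  have hrange := hyp.2.2.2.2
  have hidx : ∀ x : G, idx x = 1 ∨ idx x = m ∨ idx x = m * n := by
    intro x
    have h1 : idx x ∈ ({1, m, m * n} : Set ℕ) := by
      rw [← hrange]; exact Set.mem_range_self x
    simpa using h1
  -- every centralizer of index `mn` is abelian
  have hL2 : ∀ w : G, idx w = m * n → AbC w := by
    intro w hw
    obtain ⟨b, hPM, hbw⟩ := hSyl m n hyp m hmp dvd_rfl w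
    have habb := hAb m n hyp hNG m b hPM (hall b hPM)
    obtain ⟨hib, -⟩ := hStr m n hyp hNG m b hPM
    have hC := cent_eq habb hbw.symm (hw.trans hib.symm)
    intro y1 y2 h1 h2
    have h1' := memC.mpr h1
    have h2' := memC.mpr h2
    rw [hC] at h1' h2'
    exact habb y1 y2 (memC.mp h1') (memC.mp h2')
  -- the element `b`
  obtain ⟨b, hbPM, -⟩ := hSyl m n hyp m hmp dvd_rfl 1
  obtain ⟨hib, Sb, Ab, hSb, hAbm, hAbc, hcard, ⟨j, hj⟩, hcop⟩ := hStr m n hyp hNG m b hbPM
  have habb : AbC b := hL2 b hib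
  obtain ⟨S, hSbS⟩ := (IsPGroup.of_card hj).exists_le_sylow
  have hScard : Nat.card S = m ^ (j + 1) :=
    sylow_card hcopmn (by omega) hcop Nat.card_pos (hj ▸ hcard) S
  have hex : ∃ g : G, g ∈ S ∧ g ∉ Sb := by
    by_contra hcon
    push Not at hcon
    have hle : (S : Subgroup G) ≤ Sb := fun g hg => hcon g hg
    have h1 := Subgroup.card_le_of_le hle
    rw [hScard, hj] at h1
    exact absurd h1 (not_le.mpr (Nat.pow_lt_pow_right hm1 (Nat.lt_succ_self j)))
  obtain ⟨g, hgS, hgSb⟩ := hex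
  have hordS : ∀ σ : G, σ ∈ S → ∃ k : ℕ, orderOf σ = m ^ k := by
    intro σ hσ
    have h1 : orderOf σ ∣ Nat.card S := by
      have h2 := orderOf_dvd_natCard (⟨σ, hσ⟩ : (S : Subgroup G))
      rwa [Subgroup.orderOf_mk] at h2
    rw [hScard] at h1
    obtain ⟨k, -, hk⟩ := (Nat.dvd_prime_pow hmp).1 h1
    exact ⟨k, hk⟩
  have hbc : b ∉ Subgroup.center G := hbPM.2.2.2
  have hbSb : b ∈ Sb := (hSb b).2 ⟨Commute.refl b, hbPM.2.2.1⟩
  have hgc : g ∉ Subgroup.center G := by
    intro hc
    apply hgSb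
    rw [hSb]
    exact ⟨(Subgroup.mem_center_iff.mp hc b).symm, hordS g hgS⟩
  have hgPM : PM m m g := ⟨hmp, dvd_rfl, hordS g hgS, hgc⟩
  obtain ⟨hig, -⟩ := hStr m n hyp hNG m g hgPM
  have habg : AbC g := hL2 g hig
  -- `C(b) ∩ C(g) ≤ Z(G)`
  have hHZ : ∀ v : G, Commute v b → Commute v g → v ∈ Subgroup.center G := by
    intro v hvb hvg
    by_contra hv
    rcases hidx v with h1 | h1 | h1
    · exact hv ((idx_eq_one_iff v).1 h1)
    · have hSbX : Sb ≤ Subgroup.centralizer ({v} : Set G) ⊓ S := fun y hy =>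
        ⟨memC.mpr (habb y v ((hSb y).1 hy).1 hvb), hSbS hy⟩
      rcases max_sub hmp hj hScard hSbX inf_le_right with hX | hX
      · apply hgSb
        rw [← hX]
        exact ⟨memC.mpr hvg.symm, hgS⟩
      · have hle : (S : Subgroup G) ≤ Subgroup.centralizer ({v} : Set G) := by
          intro y hy
          have h2 : y ∈ Subgroup.centralizer ({v} : Set G) ⊓ S := by rw [hX]; exact hy
          exact h2.1
        have hdvd : (Subgroup.centralizer ({v} : Set G)).index ∣ (S : Subgroup G).index :=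
          Subgroup.index_dvd_of_le hle
        have h1' : (Subgroup.centralizer ({v} : Set G)).index = m := h1
        rw [h1'] at hdvd
        exact Sylow.not_dvd_index S hdvd
    · have hC1 := cent_eq habb hvb (h1.trans hib.symm)
      have hC2 := cent_eq habg hvg (h1.trans hig.symm)
      apply hgSb
      rw [hSb]
      refine ⟨?_, hordS g hgS⟩
      have h2 : g ∈ Subgroup.centralizer ({g} : Set G) := memC.mpr (Commute.refl g)
      rw [← hC2, hC1] at h2
      exact memC.mp h2
  -- the elements `x ∈ C(b)`, `x' ∈ C(g)`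
  obtain ⟨x, r, k, hr, hrm, hox, hxb, hix⟩ := hStepA m n hyp hNG b hib habb
  obtain ⟨x', r', k', hr', hrm', hox', hx'g, hix'⟩ := hStepA m n hyp hNG g hig habg
  have hconj : ∀ t : G, Commute (t * x * t⁻¹) b := fun t =>
    hStepB m n hyp hNG b hib habb x t hxb hix
  have hconj' : ∀ t : G, Commute (t * x' * t⁻¹) g := fun t =>
    hStepB m n hyp hNG g hig habg x' t hx'g hix'
  have hrne : r ≠ m := fun h => hrm (h ▸ dvd_rfl)
  -- `x` and `x'` commute
  have hxx' : Commute x x' := by
    have : Fact r.Prime := ⟨hr⟩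
    have hXp : ∀ y ∈ Subgroup.normalClosure ({x} : Set G), y ^ (r ^ k) = 1 ∧ Commute y b := by
      intro y hy
      rw [Subgroup.normalClosure] at hy
      refine Subgroup.closure_induction (p := fun y _ => y ^ (r ^ k) = 1 ∧ Commute y b)
        ?_ ?_ ?_ ?_ hy
      · intro y hy
        obtain ⟨a, ha, hc⟩ := Group.mem_conjugatesOfSet_iff.mp hy
        rw [Set.mem_singleton_iff] at ha
        subst ha
        obtain ⟨c, hc⟩ := isConj_iff.mp hc
        subst hc
        refine ⟨?_, hconj c⟩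
        rw [conj_pow, ← hox, pow_orderOf_eq_one]; group
      · exact ⟨one_pow _, Commute.one_left b⟩
      · intro y1 y2 _ _ h1 h2
        refine ⟨?_, h1.2.mul_left h2.2⟩
        rw [(habb y1 y2 h1.2 h2.2).mul_pow, h1.1, h2.1, one_mul]
      · intro y _ h1
        exact ⟨by rw [inv_pow, h1.1, inv_one], h1.2.inv_left⟩
    have hXpg : IsPGroup r (Subgroup.normalClosure ({x} : Set G)) := fun y =>
      ⟨k, Subtype.ext (by simpa using (hXp y.1 y.2).1)⟩
    obtain ⟨e, he⟩ := IsPGroup.iff_card.mp hXpg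
    have hle : Subgroup.normalClosure ({x} : Set G) ≤ Subgroup.centralizer ({x'} : Set G) :=
      nc_le hr hmp hrne he hix'
    have hxX : x ∈ Subgroup.normalClosure ({x} : Set G) :=
      Subgroup.subset_normalClosure (Set.mem_singleton x)
    exact memC.mp (hle hxX)
  -- elements of `S` commuting with `x * x'` are central
  have hCS : ∀ σ : G, σ ∈ S → Commute σ (x * x') → σ ∈ Subgroup.center G := by
    intro σ hσS hσw
    have hzb : Commute (x⁻¹ * (σ * x * σ⁻¹)) b := (hxb.inv_left).mul_left (hconj σ)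
    have h1 : σ * (x * x') = (x * x') * σ := hσw
    have h2 : (σ * x * σ⁻¹) * (σ * x' * σ⁻¹) = x * x' := by
      calc (σ * x * σ⁻¹) * (σ * x' * σ⁻¹) = σ * (x * x') * σ⁻¹ := by group
        _ = x * x' * σ * σ⁻¹ := by rw [h1]
        _ = x * x' := by group
    have hzeq : x⁻¹ * (σ * x * σ⁻¹) = x' * (σ * x' * σ⁻¹)⁻¹ := by
      have h3 : σ * x * σ⁻¹ = x * x' * (σ * x' * σ⁻¹)⁻¹ := by rw [← h2]; group
      rw [h3]; group
    have hzg : Commute (x⁻¹ * (σ * x * σ⁻¹)) g := by
      rw [hzeq]; exact hx'g.mul_left (hconj' σ).inv_left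
    have hzc := hHZ _ hzb hzg
    have hσx : σ * x * σ⁻¹ = x * (x⁻¹ * (σ * x * σ⁻¹)) := by group
    obtain ⟨kσ, hkσ⟩ := hordS σ hσS
    have hcop1 : (orderOf x).Coprime (orderOf σ) := by
      rw [hox, hkσ]
      exact Nat.Coprime.pow _ _ ((Nat.coprime_primes hr hmp).2 hrne)
    have hz1 := coprime_trick hzc hσx hcop1
    have hσx1 : Commute σ x := by
      have h3 : σ * x * σ⁻¹ = x := by rw [hσx, hz1, mul_one]
      show σ * x = x * σ
      calc σ * x = σ * x * σ⁻¹ * σ := by group
        _ = x * σ := by rw [h3]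
    have hσSb : σ ∈ Sb := by
      have hSbX : Sb ≤ Subgroup.centralizer ({x} : Set G) ⊓ S := fun y hy =>
        ⟨memC.mpr (habb y x ((hSb y).1 hy).1 hxb), hSbS hy⟩
      rcases max_sub hmp hj hScard hSbX inf_le_right with hX | hX
      · rw [← hX]; exact ⟨memC.mpr hσx1, hσS⟩
      · exfalso
        have hle : (S : Subgroup G) ≤ Subgroup.centralizer ({x} : Set G) := by
          intro y hy
          have h4 : y ∈ Subgroup.centralizer ({x} : Set G) ⊓ S := by rw [hX]; exact hy
          exact h4.1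
        have hdvd : (Subgroup.centralizer ({x} : Set G)).index ∣ (S : Subgroup G).index :=
          Subgroup.index_dvd_of_le hle
        have hix1 : (Subgroup.centralizer ({x} : Set G)).index = m := hix
        rw [hix1] at hdvd
        exact Sylow.not_dvd_index S hdvd
    have hσb : Commute σ b := ((hSb σ).1 hσSb).1
    have hσx2 : Commute σ x' := by
      have h5 : σ * x = x * σ := hσx1
      show σ * x' = x' * σ
      have h6 : x * (σ * x') = x * (x' * σ) := by
        calc x * (σ * x') = (x * σ) * x' := by group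
          _ = (σ * x) * x' := by rw [h5]
          _ = σ * (x * x') := by group
          _ = x * x' * σ := h1
          _ = x * (x' * σ) := by group
      exact mul_left_cancel h6
    by_contra hσc
    have hσPM : PM m m σ := ⟨hmp, dvd_rfl, hordS σ hσS, hσc⟩
    obtain ⟨hiσ, -⟩ := hStr m n hyp hNG m σ hσPM
    have hC := cent_eq habb hσb (hiσ.trans hib.symm)
    have h7 := memC.mpr hσx2.symm
    rw [hC] at h7
    have hx'c := hHZ x' (memC.mp h7) hx'g
    have h8 := (idx_eq_one_iff x').2 hx'c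
    omega
  -- `idx (x * x') = m * n`
  have hiw : idx (x * x') = m * n := by
    rcases hidx (x * x') with h1 | h1 | h1
    · exfalso
      have hwc := (idx_eq_one_iff (x * x')).1 h1
      exact hbc (hCS b (hSbS hbSb) (Subgroup.mem_center_iff.mp hwc b))
    · exfalso
      have hXle : Subgroup.centralizer ({x * x'} : Set G) ⊓ S ≤ Sb := by
        intro σ hσ
        have hσc := hCS σ hσ.2 (memC.mp hσ.1)
        rw [hSb]
        exact ⟨(Subgroup.mem_center_iff.mp hσc b).symm, hordS σ hσ.2⟩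
      have hXne : Subgroup.centralizer ({x * x'} : Set G) ⊓ S ≠ Sb := by
        intro h
        have h2 : b ∈ Subgroup.centralizer ({x * x'} : Set G) ⊓ S := by rw [h]; exact hbSb
        exact hbc (hCS b h2.2 (memC.mp h2.1))
      have hdvd : Nat.card (Subgroup.centralizer ({x * x'} : Set G) ⊓ S : Subgroup G) ∣ m ^ j :=
        hj ▸ Subgroup.card_dvd_of_le hXle
      obtain ⟨i, hij, hi⟩ := (Nat.dvd_prime_pow hmp).1 hdvd
      have hilt : i < j := by
        rcases Nat.lt_or_ge i j with h | h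
        · exact h
        · exfalso
          apply hXne
          exact Subgroup.eq_of_le_of_card_ge hXle
            (by rw [hj, hi]; exact Nat.pow_le_pow_right hmp.pos h)
      have hrel : Nat.card (Subgroup.centralizer ({x * x'} : Set G) ⊓ S : Subgroup G) *
          (Subgroup.centralizer ({x * x'} : Set G)).relIndex S = Nat.card S := by
        have h3 := card_mul_relIndex'
          (inf_le_right : Subgroup.centralizer ({x * x'} : Set G) ⊓ S ≤ S)
        rwa [Subgroup.inf_relIndex_right] at h3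
      have hle : (Subgroup.centralizer ({x * x'} : Set G)).relIndex S ≤ m := by
        have h4 := Subgroup.relIndex_le_of_le_right
          (H := Subgroup.centralizer ({x * x'} : Set G)) (le_top : (S : Subgroup G) ≤ ⊤)
          (by rw [Subgroup.relIndex_top_right]; exact Subgroup.index_ne_zero_of_finite)
        rw [Subgroup.relIndex_top_right] at h4
        exact h4.trans_eq h1
      rw [hi, hScard] at hrel
      have h5 : m ^ (j + 1) ≤ m ^ i * m := by
        rw [← hrel]; exact Nat.mul_le_mul_left _ hle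
      have h6 : m ^ i * m = m ^ (i + 1) := (pow_succ m i).symm
      have h7 : m ^ (i + 1) < m ^ (j + 1) := Nat.pow_lt_pow_right hm1 (by omega)
      omega
    · exact h1
  have habw : AbC (x * x') := hL2 _ hiw
  obtain ⟨bs, hbsPM, hbsw⟩ := hSyl m n hyp m hmp dvd_rfl (x * x')
  have hxw : Commute x (x * x') := by
    show x * (x * x') = x * x' * x
    rw [mul_assoc, hxx'.eq]
  have hx'w : Commute x' (x * x') := by
    show x' * (x * x') = x * x' * x'
    rw [← mul_assoc, hxx'.eq]
  have hxbs : Commute x bs := habw x bs hxw hbsw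
  have hx'bs : Commute x' bs := habw x' bs hx'w hbsw
  obtain ⟨v, hv⟩ := conj_lemma hStr hAb hyp hNG hmp hall hbPM hbsPM hix hxbs hconj
  obtain ⟨v', hv'⟩ := conj_lemma hStr hAb hyp hNG hmp hall hgPM hbsPM hix' hx'bs hconj'
  have h1 : Commute (v' * x * v'⁻¹) bs := by
    rw [hv]
    have h2 := hconj (v⁻¹ * v')
    have e : v⁻¹ * (v' * x * v'⁻¹) * v = v⁻¹ * v' * x * (v⁻¹ * v')⁻¹ := by group
    rw [e]; exact h2
  have h2 : Commute (v'⁻¹ * (v' * x * v'⁻¹) * v') g := (hv' _).1 h1
  have e2 : v'⁻¹ * (v' * x * v'⁻¹) * v' = x := by group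
  rw [e2] at h2
  have hxc := hHZ x hxb h2
  have h3 := (idx_eq_one_iff x).2 hxc
  omega

end Cfsg.Agent.Lib.Helper50.CS3
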